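import Cfsg.Agent.H55.Fi24Out
import Cfsg.Agent.H96.Type24

/-! An extension of degree two of `Fi₂₄'` with trivial centraliser is `Fi₂₄`. -/

set_option autoImplicit false

namespace Cfsg.Agent.H22.LF

open H58 H95 H96 Subgroup H51.Fi

theorem conj24_bij : Function.Bijective
    (MulAut.conjNormal : Spor.Fi24 →* MulAut (_root_.commutator Spor.Fi24)) := by
  classical
  have := Fi24P.finite
  refine ⟨(MonoidHom.ker_eq_bot_iff _).1 (by_contra fun h => not_comm24 ⟨⟨fun a b => Subtype.ext ?_⟩⟩), fun α => ?_⟩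
  · exact mul_inv_eq_iff_eq_mul.1 (congrArg (fun φ : MulAut (_root_.commutator Spor.Fi24) => (φ b : Spor.Fi24))
      (Fi24P.commutator_le _ inferInstance h a.2))
  · obtain ⟨u, hu⟩ := F24A.hyp24.induced (f := fun g => if hg : g ∈ _root_.commutator _ then α ⟨g, hg⟩ else 1)
      ⟨fun g hg => by rw [dif_pos hg]; exact (α _).2, fun g hg x hx => by
        rw [dif_pos hg, dif_pos hx, dif_pos (mul_mem hg hx), ← coe_mul, ← map_mul]; rfl, fun g hg x hx e => by
        rw [dif_pos hg, dif_pos hx] at e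
        exact congrArg Subtype.val (α.injective (Subtype.ext e))⟩ S2080.result
    refine ⟨u, ?_⟩
    ext g
    have := hu g g.2
    rw [dif_pos g.2] at this
    exact this.symm

theorem aut24 {X : Type*} [Group X] [Finite X] {G₀ : Subgroup X} (hi : G₀.index = 2) (e : Spor.IsoFi24' G₀)
    (hc : ∀ d : X, (∀ g ∈ G₀, Commute d g) → d = 1) : Nonempty (X ≃* Spor.Fi24) := by
  have := normal_of_index_eq_two hi
  have := Fi24P.finite
  obtain ⟨e⟩ := e
  let f : X →* Spor.Fi24 := (MulEquiv.ofBijective _ conj24_bij).symm.toMonoidHom.comp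
    ((MulAut.congr e).toMonoidHom.comp (MulAut.conjNormal : X →* MulAut G₀))
  refine ⟨MulEquiv.ofBijective f ((Nat.bijective_iff_injective_and_card f).2
    ⟨(injective_iff_map_eq_one _).2 fun d hd => hc d fun g hg => ?_, ?_⟩)⟩
  · replace hd := (MulAut.congr e).map_eq_one_iff.1
      ((MulEquiv.ofBijective _ conj24_bij).symm.map_eq_one_iff.1 hd)
    exact mul_inv_eq_iff_eq_mul.1 (congrArg (fun φ : MulAut G₀ => (φ ⟨g, hg⟩ : X)) hd)
  · rw [← G₀.card_mul_index, ← (_root_.commutator Spor.Fi24).card_mul_index, hi, Fi24P.index_commutator,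
      Nat.card_congr e.toEquiv]

theorem type24_of_equiv {X : Type*} [Group X] (e : X ≃* Spor.Fi24) :
    ∃ E : Set X, IsThreeTranspositionClass E ∧ IsOfTypeM24 X E := by
  have := Fi24P.finite
  have := Finite.of_equiv _ e.symm.toEquiv
  have he : e '' (e.symm '' D24) = D24 := by simp [Set.image_image]
  have h1 := group_image (group_of_class class24) e.symm
  have h2 := isChart_equiv e (e.symm '' D24)
  rw [he] at h2
  refine ⟨_, class_of_equiv e he h1 class24, F24.type ((h2.iso
    ⟨h1.1, (cl_of_group h1).cj h1.1⟩ irr24.toSp).f24 f24) (eq_bot_iff.2 fun z hz => ?_)⟩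
  refine (map_eq_one_iff e e.injective).1 (center24.le (mem_center_iff.2 fun g => ?_))
  obtain ⟨g, rfl⟩ := e.surjective g
  rw [← map_mul, ← map_mul, mem_center_iff.1 hz]

end Cfsg.Agent.H22.LF
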